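import Groth.Agent.REqForms.Forms
import Groth.Agent.HTorBC.PairSec
import Groth.Agent.LocFree.Props
import Mathlib.LinearAlgebra.ExteriorPower.Basis

/-!
# Tests on a chart detect tensors of forms
-/

set_option autoImplicit false
set_option linter.style.haveILetI false
set_option backward.isDefEq.respectTransparency false
set_option backward.isDefEq.respectTransparency.types false
set_option maxHeartbeats 800000

universe u

open CategoryTheory AlgebraicGeometry TopologicalSpace Opposite
open Groth.Agent.QC (res resO app_res)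

noncomputable section

namespace Groth.Agent.REqForms

variable {X Z : Scheme.{u}}

theorem mu_congr (y : Z ⟶ X) {L : X.Modules} (ν ν' : ℕ → (L ⟶ G y)) (m : ℕ) (h : ∀ j < m, ν j = ν' j) :
    mu y ν m = mu y ν' m := by
  induction m with
  | zero => rfl
  | succ m ih =>
    show prod y (mu y ν m) (ν m) = prod y (mu y ν' m) (ν' m)
    rw [ih (fun j hj => h j (by omega)), h m (by omega)]

/-- A family of forms extended by zero. -/
def extFam {y : Z ⟶ X} {L : X.Modules} {T : Type} (N : T → (L ⟶ G y)) {m : ℕ} (c : Fin m → T) (a : ℕ) :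
    L ⟶ G y :=
  if ha : a < m then N (c ⟨a, ha⟩) else 0

/-- Forms dual to a basis detect tensors. -/
theorem mu_detect (y : Z ⟶ X) {V : X.Opens} (hV : IsAffineOpen V) (hy : Function.Injective (y.app V))
    {L : X.Modules} (hq : ∀ m, Coh.IsQCoh (CohB1.tensorPow L m)) (hL : Coh.IsQCoh L) {T : Type} [Fintype T]
    (B : Module.Basis T Γ(X, V) Γ(L, V)) (N : T → (L ⟶ G y))
    (hN : ∀ a z, fn y V ((N a).app V z) = y.app V (B.repr z a)) :
    ∀ (m : ℕ) (p : Γ(CohB1.tensorPow L m, V)),
      (∀ c : Fin m → T, fn y V ((mu y (extFam N c) m).app V p) = 0) → p = 0 := by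
  intro m
  induction m with
  | zero =>
    intro p h
    have := h Fin.elim0
    change y.app V (OmegaSh.fnSect X V p) = 0 at this
    exact hy (this.trans (map_zero (y.app V).hom).symm)
  | succ m ih =>
    intro p h
    obtain ⟨q, rfl⟩ := (HTorBC.bijective_tt hV (hq m) hL).2 p
    have hsum : ∃ a : T → Γ(CohB1.tensorPow L m, V), q = ∑ j, a j ⊗ₜ[Γ(X, V)] B j := by
      clear h
      induction q using TensorProduct.induction_on with
      | zero => exact ⟨0, by simp⟩
      | tmul x n =>
        refine ⟨fun j => B.repr n j • x, ?_⟩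
        conv_lhs => rw [← B.sum_repr n]
        rw [TensorProduct.tmul_sum]
        exact Finset.sum_congr rfl fun j _ => (TensorProduct.smul_tmul _ _ _).symm
      | add p q hp hq =>
        obtain ⟨a, rfl⟩ := hp
        obtain ⟨b, rfl⟩ := hq
        exact ⟨a + b, by simp [TensorProduct.add_tmul, Finset.sum_add_distrib]⟩
    obtain ⟨a, rfl⟩ := hsum
    suffices ∀ j, a j = 0 by simp [this]
    intro j₀
    refine ih (a j₀) fun c => ?_
    classical
    have h' := h (Fin.snoc c j₀)
    have e1 : mu y (extFam N (Fin.snoc c j₀)) (m + 1) = prod y (mu y (extFam N c) m) (N j₀) := by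
      show prod y (mu y _ m) (extFam N (Fin.snoc c j₀) m) = _
      congr 1
      · refine mu_congr y _ _ m fun j hj => ?_
        simp only [extFam, dif_pos hj, dif_pos (show j < m + 1 by omega)]
        exact congrArg N (Fin.snoc_castSucc (α := fun _ => T) j₀ c ⟨j, hj⟩)
      · simp only [extFam, dif_pos (Nat.lt_succ_self m)]
        exact congrArg N (Fin.snoc_last (α := fun _ => T) j₀ c)
    rw [e1, map_sum, map_sum, map_sum, Finset.sum_eq_single j₀] at h'
    · rw [TMul.tt_tmul] at h'
      erw [fn_prod_tm, hN] at h'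
      rw [B.repr_self, Finsupp.single_eq_same, map_one, mul_one] at h'
      exact h'
    · intro j _ hj
      rw [TMul.tt_tmul]
      erw [fn_prod_tm, hN]
      rw [B.repr_self, Finsupp.single_eq_of_ne (Ne.symm hj), map_zero, mul_zero]
    · simp

/-- Values over an affine open only depend on values there. -/
theorem mu_app_congr (y : Z ⟶ X) {V : X.Opens} (hV : IsAffineOpen V) {L : X.Modules}
    (hq : ∀ m, Coh.IsQCoh (CohB1.tensorPow L m)) (hL : Coh.IsQCoh L) (ν ν' : ℕ → (L ⟶ G y)) (m : ℕ)
    (h : ∀ j < m, ∀ z, (ν j).app V z = (ν' j).app V z) (p : Γ(CohB1.tensorPow L m, V)) :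
    (mu y ν m).app V p = (mu y ν' m).app V p := by
  induction m with
  | zero => rfl
  | succ m ih =>
    obtain ⟨q, rfl⟩ := (HTorBC.bijective_tt hV (hq m) hL).2 p
    induction q using TensorProduct.induction_on with
    | zero => simp only [map_zero]
    | tmul x n =>
      apply fn_injective
      show fn y V ((prod y (mu y ν m) (ν m)).app V (TMul.tm x n)) =
        fn y V ((prod y (mu y ν' m) (ν' m)).app V (TMul.tm x n))
      rw [fn_prod_tm, fn_prod_tm, h m (by omega), ih (fun j hj => h j (by omega))]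
    | add p q hp hq => simp only [map_add, hp, hq]

variable {k : Type u} [Field k] {f : X ⟶ Spec (CommRingCat.of k)} [QuasiSeparated f] {ι : Type}
  {V : X.Opens} (hV : IsAffineOpen V) {n : ℕ} (b : Module.Basis (Fin n) Γ(X, V) Γ(Omega.sheaf f, V))

include hV in
omit [QuasiSeparated f] in
theorem chart_w : hV.fromSpec ≫ f =
    Spec.map ((Scheme.ΓSpecIso (CommRingCat.of k)).inv ≫ f.appLE ⊤ V le_top) := by
  rw [Spec.map_comp, ← IsAffineOpen.SpecMap_appLE_fromSpec f (isAffineOpen_top _) hV le_top,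
    IsAffineOpen.fromSpec_top, Scheme.isoSpec_Spec_inv]

/-- The test of a chart with coordinate derivations. -/
def chartTest (c : ι → Fin n) : Test ι (Over.mk f) where
  R := Γ(X, V)
  α := (Scheme.ΓSpecIso (CommRingCat.of k)).inv ≫ f.appLE ⊤ V le_top
  y := hV.fromSpec
  w := chart_w hV
  D j := (b.coord (c j)).toAddMonoidHom.comp ((OmegaSh.dOmega f).app V)
  leib j a a' := by
    show b.coord (c j) ((OmegaSh.dOmega f).app V (a * a')) = _
    rw [OmegaLib.app_mul, map_add, map_smul, map_smul]
    rfl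
  base j c' := by
    show b.coord (c j) ((OmegaSh.dOmega f).app V (f.appLE ⊤ V le_top ((Scheme.ΓSpecIso (CommRingCat.of k)).inv c'))) = 0
    rw [OmegaLib.app_appLE, map_zero]

omit [QuasiSeparated f] in
theorem fromSpec_app_apply (a : Γ(X, V)) :
    hV.fromSpec.app V a = resO (Spec Γ(X, V)) (le_top : hV.fromSpec ⁻¹ᵁ V ≤ ⊤)
      ((Scheme.ΓSpecIso Γ(X, V)).inv a) := by
  rw [hV.fromSpec_app_self]
  rfl

theorem fromSpec_app_injective : Function.Injective (hV.fromSpec.app V) := by
  haveI : IsIso (hV.fromSpec.app V) := by rw [hV.fromSpec_app_self]; infer_instance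
  exact (ConcreteCategory.bijective_of_isIso (hV.fromSpec.app V)).1

theorem om_chart (c : ι → Fin n) (j : ι) (x : Γ(Omega.sheaf f, V)) :
    fn hV.fromSpec V ((om (chartTest hV b c) j).app V x) = hV.fromSpec.app V (b.coord (c j) x) := by
  have hspan := OmegaLib.span_app (OmegaLib.isUniversal_dOmega f) (U := V) (V := ⊤) le_top hV (isAffineOpen_top _)
  have hx : x ∈ Submodule.span Γ(X, V) (Set.range ((OmegaSh.dOmega f).app V)) := by
    rw [hspan]; exact Submodule.mem_top
  induction hx using Submodule.span_induction with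
  | mem x hx =>
    obtain ⟨a, rfl⟩ := hx
    rw [om_d]
    refine (tDer_app (chartTest hV b c) j V a).trans ?_
    show OmegaSh.fnSect (Spec Γ(X, V)) _ ((specDer (chartTest hV b c) j).app (hV.fromSpec ⁻¹ᵁ V)
      (hV.fromSpec.app V a)) = _
    rw [fromSpec_app_apply, fromSpec_app_apply]
    refine (congrArg (OmegaSh.fnSect (Spec Γ(X, V)) _)
      (OmegaLib.res_app (specDer (chartTest hV b c) j) le_top _).symm).trans ?_
    rw [specDer_top, topDer_apply]
    show resO (Spec Γ(X, V)) _ ((Scheme.ΓSpecIso Γ(X, V)).inv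
      ((chartTest hV b c).D j ((Scheme.ΓSpecIso Γ(X, V)).hom ((Scheme.ΓSpecIso Γ(X, V)).inv a)))) = _
    rw [Iso.inv_hom_id_apply]
    rfl
  | zero => simp only [map_zero]
  | add u v _ _ h1 h2 => simp only [map_add, h1, h2]
  | smul r u _ h1 =>
    rw [Scheme.Modules.Hom.app_smul, fn_smul, map_smul, smul_eq_mul, map_mul]
    exact congrArg (_ * ·) h1

open Set Set.powersetCard in
theorem nu_chart {i : ℕ} {L : X.Modules} (φ : Ident i (Omega.sheaf f) L)
    (hφ : ∀ (U U' : X.affineOpens) (h : U'.1 ≤ U.1) (e : Fin i → Γ(Omega.sheaf f, U.1)),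
      res L h ((φ U).symm (exteriorPower.ιMulti _ i e)) =
        (φ U').symm (exteriorPower.ιMulti _ i (fun j => res (Omega.sheaf f) h (e j))))
    {m : ℕ} (c : Fin m → powersetCard (Fin n) i) (a : Fin m) (z : Γ(L, V)) :
    fn hV.fromSpec V ((nu hV.fromSpec φ hφ (fun l =>
        om (chartTest hV b (fun p : Fin m × Fin i => ofFinEmbEquiv.symm (c p.1) p.2)) (a, l))).app V z) =
      hV.fromSpec.app V (((b.exteriorPower i).map (φ ⟨V, hV⟩).symm).repr z (c a)) := by
  rw [nu_app hV.fromSpec φ hφ _ ⟨V, hV⟩, Module.Basis.map_repr, LinearEquiv.trans_apply, LinearEquiv.symm_symm,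
    exteriorPower.basis_repr_apply]
  generalize φ ⟨V, hV⟩ z = w
  have hw : w ∈ Submodule.span Γ(X, V)
      (Set.range (exteriorPower.ιMulti Γ(X, V) i (M := Γ(Omega.sheaf f, V)))) := by
    rw [exteriorPower.ιMulti_span]; exact Submodule.mem_top
  induction hw using Submodule.span_induction with
  | mem w hw =>
    obtain ⟨e, rfl⟩ := hw
    rw [exteriorPower.alternatingMapLinearEquiv_apply_ιMulti, exteriorPower.ιMultiDual_apply_ιMulti, detA_apply,
      fn_sec, RingHom.map_det]
    congr 1
    ext p q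
    exact om_chart hV b _ (a, q) (e p)
  | zero => simp only [map_zero]
  | add u v _ _ h1 h2 => simp only [map_add, h1, h2]
  | smul r u _ h1 =>
    rw [map_smul, fn_smul, map_smul, smul_eq_mul, map_mul]
    exact congrArg (_ * ·) h1

open Set Set.powersetCard in
/-- Tests on a chart detect tensors of forms there. -/
theorem chart_detect {i m : ℕ} {L : X.Modules} (hq : ∀ a, Coh.IsQCoh (CohB1.tensorPow L a)) (hL : Coh.IsQCoh L)
    (φ : Ident i (Omega.sheaf f) L)
    (hφ : ∀ (U U' : X.affineOpens) (h : U'.1 ≤ U.1) (e : Fin i → Γ(Omega.sheaf f, U.1)),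
      res L h ((φ U).symm (exteriorPower.ιMulti _ i e)) =
        (φ U').symm (exteriorPower.ιMulti _ i (fun j => res (Omega.sheaf f) h (e j))))
    (s : Γ(CohB1.tensorPow L m, ⊤))
    (h : ∀ c : Fin m × Fin i → Fin n, value φ hφ s (chartTest hV b c) = 0) :
    res (CohB1.tensorPow L m) (le_top : V ≤ ⊤) s = 0 := by
  classical
  let T := powersetCard (Fin n) i
  rcases Nat.eq_zero_or_pos m with hm | hm
  · subst hm
    have := h (fun p => p.1.elim0)
    have h0 : fn hV.fromSpec ⊤ ((pull hV.fromSpec).app ⊤ s) = 0 :=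
      (ConcreteCategory.bijective_of_isIso (Scheme.ΓSpecIso Γ(X, V)).hom).1
        (this.trans (map_zero (Scheme.ΓSpecIso Γ(X, V)).hom.hom).symm)
    refine fromSpec_app_injective hV ?_
    show fn hV.fromSpec V ((pull hV.fromSpec).app V (res _ le_top s)) = _
    rw [← app_res, fn_res, h0, map_zero]
    exact (map_zero (hV.fromSpec.app V).hom).symm
  by_cases hT : IsEmpty T
  · let B := (b.exteriorPower i).map (φ ⟨V, hV⟩).symm
    haveI : Subsingleton Γ(L, V) := B.repr.toEquiv.subsingleton
    obtain ⟨a, rfl⟩ : ∃ a, m = a + 1 := ⟨m - 1, by omega⟩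
    obtain ⟨q, hq'⟩ := (HTorBC.bijective_tt hV (hq a) hL).2 (res (CohB1.tensorPow L (a + 1)) le_top s)
    rw [← hq', Subsingleton.elim q 0, map_zero]
  rw [not_isEmpty_iff] at hT
  obtain ⟨T₀⟩ := hT
  let B := (b.exteriorPower i).map (φ ⟨V, hV⟩).symm
  let tc : (Fin m → T) → Test (Fin m × Fin i) (Over.mk f) := fun c =>
    chartTest hV b (fun p : Fin m × Fin i => ofFinEmbEquiv.symm (c p.1) p.2)
  let N : T → (L ⟶ G hV.fromSpec) := fun S =>
    nu hV.fromSpec φ hφ (fun l => om (tc fun _ => S) ((⟨0, hm⟩ : Fin m), l))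
  have hN : ∀ S z, fn hV.fromSpec V ((N S).app V z) = hV.fromSpec.app V (B.repr z S) := fun S z =>
    nu_chart hV b φ hφ (fun _ => S) ⟨0, hm⟩ z
  refine mu_detect hV.fromSpec hV (fromSpec_app_injective hV) hq hL B N hN m _ fun c => ?_
  have e : (mu hV.fromSpec (extFam N c) m).app V (res (CohB1.tensorPow L m) le_top s) =
      (mu hV.fromSpec (nus φ hφ (tc c)) m).app V (res (CohB1.tensorPow L m) le_top s) :=
    mu_app_congr _ hV hq hL _ _ m (fun a ha z => fn_injective _ V (by
      simp only [extFam, nus, dif_pos ha]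
      exact (hN _ z).trans (nu_chart hV b φ hφ c ⟨a, ha⟩ z).symm)) _
  have h0 : fn hV.fromSpec ⊤ ((mu hV.fromSpec (nus φ hφ (tc c)) m).app ⊤ s) = 0 :=
    (ConcreteCategory.bijective_of_isIso (Scheme.ΓSpecIso Γ(X, V)).hom).1
      ((h fun p : Fin m × Fin i => ofFinEmbEquiv.symm (c p.1) p.2).trans
        (map_zero (Scheme.ΓSpecIso Γ(X, V)).hom.hom).symm)
  rw [e, ← app_res, fn_res, h0, map_zero]

end Groth.Agent.REqForms
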