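import Groth.Agent.KosExt.Hom
import Groth.Agent.OmegaLib.Compat
import Groth.Agent.OmegaLib.FiniteType
import Groth.Agent.TMul.Basic
import Mathlib.LinearAlgebra.Matrix.Determinant.Basic

/-!
# Evaluating tensor powers of exterior powers of a module in a pushed forward structure sheaf
-/

set_option autoImplicit false
set_option linter.style.haveILetI false
set_option backward.isDefEq.respectTransparency false
set_option backward.isDefEq.respectTransparency.types false

universe u

open CategoryTheory AlgebraicGeometry TopologicalSpace Opposite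
open Groth.Agent.QC (res resO res_res res_smul app_res section_eq_of_locally)

noncomputable section

namespace Groth.Agent.REqForms

variable {X Z Z' : Scheme.{u}} (y : Z ⟶ X)

/-- The structure sheaf of `Z` pushed to `X`. -/
abbrev G : X.Modules := (Scheme.Modules.pushforward y).obj (Coh.structureModule Z)

/-- A section as a function. -/
def fn (U : X.Opens) : Γ(G y, U) →+ Γ(Z, y ⁻¹ᵁ U) where
  toFun x := x
  map_zero' := rfl
  map_add' _ _ := rfl

/-- A function as a section. -/
def sec (U : X.Opens) : Γ(Z, y ⁻¹ᵁ U) →+ Γ(G y, U) where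
  toFun x := x
  map_zero' := rfl
  map_add' _ _ := rfl

@[simp] theorem fn_sec (U : X.Opens) (x : Γ(Z, y ⁻¹ᵁ U)) : fn y U (sec y U x) = x := rfl

theorem fn_injective (U : X.Opens) : Function.Injective (fn y U) := fun _ _ h => h

theorem fn_smul (U : X.Opens) (r : Γ(X, U)) (x : Γ(G y, U)) : fn y U (r • x) = y.app U r * fn y U x := rfl

theorem fn_res {U V : X.Opens} (h : V ≤ U) (x : Γ(G y, U)) :
    fn y V (res (G y) h x) = resO Z (y.preimage_mono h) (fn y U x) := rfl

theorem sec_smul (U : X.Opens) (r : Γ(X, U)) (x : Γ(Z, y ⁻¹ᵁ U)) : sec y U (y.app U r * x) = r • sec y U x := rfl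

/-- A morphism of modules given on all opens. -/
def mkHom {M N : X.Modules} (ψ : ∀ U : X.Opens, Γ(M, U) →+ Γ(N, U))
    (h1 : ∀ (U : X.Opens) (r : Γ(X, U)) (s : Γ(M, U)), ψ U (r • s) = r • ψ U s)
    (h2 : ∀ (U V : X.Opens) (h : V ≤ U) (s : Γ(M, U)), ψ V (res M h s) = res N h (ψ U s)) : M ⟶ N :=
  ⟨PresheafOfModules.homMk
    { app := fun O => AddCommGrpCat.ofHom (ψ O.unop)
      naturality := fun O O' i => by
        ext s
        exact h2 O.unop O'.unop i.unop.le s }
    fun O r s => h1 O.unop r s⟩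

@[simp] theorem mkHom_app {M N : X.Modules} (ψ : ∀ U : X.Opens, Γ(M, U) →+ Γ(N, U))
    (h1 : ∀ (U : X.Opens) (r : Γ(X, U)) (s : Γ(M, U)), ψ U (r • s) = r • ψ U s)
    (h2 : ∀ (U V : X.Opens) (h : V ≤ U) (s : Γ(M, U)), ψ V (res M h s) = res N h (ψ U s))
    (U : X.Opens) (s : Γ(M, U)) : (mkHom ψ h1 h2).app U s = ψ U s := rfl

theorem app_resO {U V : X.Opens} (h : V ≤ U) (r : Γ(X, U)) :
    y.app V (resO X h r) = resO Z (y.preimage_mono h) (y.app U r) :=
  ConcreteCategory.congr_hom (y.naturality (homOfLE h).op) r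

/-- Pullback of functions. -/
def pull : Coh.structureModule X ⟶ G y :=
  mkHom (fun U => (sec y U).comp ((y.app U).hom.toAddMonoidHom.comp (OmegaSh.fnSect X U)))
    (fun U r s => by
      show sec y U (y.app U (OmegaSh.fnSect X U (r • s))) = r • sec y U (y.app U (OmegaSh.fnSect X U s))
      rw [← sec_smul, ← map_mul]
      rfl)
    (fun U V h s => app_resO y h (OmegaSh.fnSect X U s))

theorem fn_pull (U : X.Opens) (s : Γ(Coh.structureModule X, U)) :
    fn y U ((pull y).app U s) = y.app U (OmegaSh.fnSect X U s) := rfl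

variable (h : Z' ⟶ Z)

/-- Change of test scheme. -/
def theta : G y ⟶ G (h ≫ y) :=
  mkHom (fun U => (sec (h ≫ y) U).comp ((h.app (y ⁻¹ᵁ U)).hom.toAddMonoidHom.comp (fn y U)))
    (fun U r s => by
      show sec (h ≫ y) U (h.app (y ⁻¹ᵁ U) (fn y U (r • s))) = r • sec (h ≫ y) U (h.app (y ⁻¹ᵁ U) (fn y U s))
      rw [fn_smul, map_mul, ← sec_smul]
      rfl)
    (fun U V hVU s => app_resO h (y.preimage_mono hVU) (fn y U s))

theorem fn_theta (U : X.Opens) (s : Γ(G y, U)) :
    fn (h ≫ y) U ((theta y h).app U s) = h.app (y ⁻¹ᵁ U) (fn y U s) := rfl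

theorem pull_theta : pull (h ≫ y) = pull y ≫ theta y h := by
  apply Scheme.Modules.hom_ext
  intro U
  ext s
  rfl

variable {M N E L : X.Modules}

/-- Products of two evaluations. -/
def prodB (a : M ⟶ G y) (b : N ⟶ G y) (U : X.Opens) : Γ(M, U) →ₗ[Γ(X, U)] Γ(N, U) →ₗ[Γ(X, U)] Γ(G y, U) :=
  LinearMap.mk₂ _ (fun m n => sec y U (fn y U (a.app U m) * fn y U (b.app U n)))
    (fun m m' n => by rw [map_add, map_add, add_mul, map_add])
    (fun r m n => by rw [Scheme.Modules.Hom.app_smul, fn_smul, mul_assoc, sec_smul])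
    (fun m n n' => by rw [map_add, map_add, mul_add, map_add])
    (fun r m n => by rw [Scheme.Modules.Hom.app_smul, fn_smul, mul_left_comm, sec_smul])

theorem prodB_res (a : M ⟶ G y) (b : N ⟶ G y) {V U : X.Opens} (h : V ≤ U) (m : Γ(M, U)) (n : Γ(N, U)) :
    res (G y) h (prodB y a b U m n) = prodB y a b V (res M h m) (res N h n) := by
  apply fn_injective
  show resO Z (y.preimage_mono h) (fn y U (a.app U m) * fn y U (b.app U n)) =
    fn y V (a.app V (res M h m)) * fn y V (b.app V (res N h n))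
  rw [map_mul, ← fn_res, ← fn_res, app_res, app_res]

/-- The product map on a tensor product. -/
def prod (a : M ⟶ G y) (b : N ⟶ G y) : CohB1.tensorMod M N ⟶ G y :=
  TMul.lift (prodB y a b) (fun h m n => prodB_res y a b h m n)

theorem fn_prod_tm (a : M ⟶ G y) (b : N ⟶ G y) {U : X.Opens} (m : Γ(M, U)) (n : Γ(N, U)) :
    fn y U ((prod y a b).app U (TMul.tm m n)) = fn y U (a.app U m) * fn y U (b.app U n) := by
  rw [prod, TMul.lift_tm]
  rfl

/-- Maps out of a tensor product agree when they agree on products. -/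
theorem hom_ext_tm {P : X.Modules} {a b : CohB1.tensorMod M N ⟶ P}
    (h : ∀ (U : X.Opens) (m : Γ(M, U)) (n : Γ(N, U)), a.app U (TMul.tm m n) = b.app U (TMul.tm m n)) : a = b := by
  apply Scheme.Modules.hom_ext
  intro U
  ext s
  refine section_eq_of_locally fun x hx => ?_
  obtain ⟨V, hV, p, hxV, hp⟩ := TMul.exists_tt s hx
  refine ⟨V, hV, hxV, ?_⟩
  rw [app_res, app_res, ← hp]
  clear hp
  induction p using TensorProduct.induction_on with
  | zero => simp only [map_zero]
  | tmul m n => exact h V m n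
  | add p q hp hq => simp only [map_add, hp, hq]

theorem prod_theta (a : M ⟶ G y) (b : N ⟶ G y) :
    prod (h ≫ y) (a ≫ theta y h) (b ≫ theta y h) = prod y a b ≫ theta y h := by
  refine hom_ext_tm fun U m n => fn_injective _ U ?_
  rw [fn_prod_tm]
  show h.app (y ⁻¹ᵁ U) (fn y U (a.app U m)) * h.app (y ⁻¹ᵁ U) (fn y U (b.app U n)) =
    h.app (y ⁻¹ᵁ U) (fn y U ((prod y a b).app U (TMul.tm m n)))
  rw [fn_prod_tm, map_mul]

theorem prod_zero (a : M ⟶ G y) : prod y a (0 : N ⟶ G y) = 0 := by
  refine hom_ext_tm fun U m n => fn_injective _ U ?_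
  rw [fn_prod_tm]
  simp

variable {i : ℕ}

/-- The matrix of values. -/
def valMat (ω : Fin i → (E ⟶ G y)) (U : X.Opens) (v : Fin i → Γ(E, U)) : Matrix (Fin i) (Fin i) Γ(Z, y ⁻¹ᵁ U) :=
  Matrix.of fun a b => fn y U ((ω b).app U (v a))

/-- The determinant of values. -/
def detA (ω : Fin i → (E ⟶ G y)) (U : X.Opens) : Γ(E, U) [⋀^Fin i]→ₗ[Γ(X, U)] Γ(G y, U) where
  toFun v := sec y U (valMat y ω U v).det
  map_update_add' {inst} v c a b := by
    obtain rfl : inst = instDecidableEqFin i := Subsingleton.elim _ _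
    have e : ∀ w, valMat y ω U (Function.update v c w) =
        (valMat y ω U v).updateRow c (fun j => fn y U ((ω j).app U w)) := fun w => by
      ext p q
      rcases eq_or_ne p c with rfl | hp
      · simp [valMat]
      · simp [valMat, hp]
    rw [← map_add, e, e, e]
    congr 1
    refine Eq.trans ?_ (Matrix.det_updateRow_add _ _ _ _)
    congr 2
    funext j
    exact (congrArg (fn y U) (map_add ((ω j).app U).hom a b)).trans (map_add (fn y U) _ _)
  map_update_smul' {inst} v c r a := by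
    obtain rfl : inst = instDecidableEqFin i := Subsingleton.elim _ _
    have e : ∀ w, valMat y ω U (Function.update v c w) =
        (valMat y ω U v).updateRow c (fun j => fn y U ((ω j).app U w)) := fun w => by
      ext p q
      rcases eq_or_ne p c with rfl | hp
      · simp [valMat]
      · simp [valMat, hp]
    rw [← sec_smul, e, e]
    congr 1
    refine Eq.trans ?_ (Matrix.det_updateRow_smul _ _ _ _)
    congr 2
    funext j
    rw [Scheme.Modules.Hom.app_smul, fn_smul]
    rfl
  map_eq_zero_of_eq' v a b hab hne := by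
    rw [Matrix.det_zero_of_row_eq hne, map_zero]
    funext j
    simp [valMat, hab]

theorem detA_apply (ω : Fin i → (E ⟶ G y)) (U : X.Opens) (v : Fin i → Γ(E, U)) :
    detA y ω U v = sec y U (valMat y ω U v).det := rfl

theorem detA_res (ω : Fin i → (E ⟶ G y)) {V U : X.Opens} (h : V ≤ U) (v : Fin i → Γ(E, U)) :
    res (G y) h (detA y ω U v) = detA y ω V (fun j => res E h (v j)) := by
  apply fn_injective
  show resO Z (y.preimage_mono h) (valMat y ω U v).det = (valMat y ω V fun j => res E h (v j)).det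
  rw [RingHom.map_det]
  congr 1
  ext a b
  show resO Z (y.preimage_mono h) (fn y U ((ω b).app U (v a))) = fn y V ((ω b).app V (res E h (v a)))
  rw [← fn_res, app_res]

theorem detA_zero (hi : 0 < i) (U : X.Opens) (v : Fin i → Γ(E, U)) :
    detA y (fun _ => (0 : E ⟶ G y)) U v = 0 := by
  rw [detA_apply, Matrix.det_eq_zero_of_column_eq_zero (⟨0, hi⟩ : Fin i), map_zero]
  intro a
  simp [valMat]

/-- The identification of an exterior power. -/
abbrev Ident (i : ℕ) (E L : X.Modules) :=
  ∀ U : X.affineOpens, Γ(L, U.1) ≃ₗ[Γ(X, U.1)] ↥(⋀[Γ(X, U.1)]^i Γ(E, U.1))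

variable (φ : Ident i E L)
  (hφ : ∀ (U V : X.affineOpens) (h : V.1 ≤ U.1) (e : Fin i → Γ(E, U.1)),
    res L h ((φ U).symm (exteriorPower.ιMulti _ i e)) =
      (φ V).symm (exteriorPower.ιMulti _ i (fun j => res E h (e j))))

include hφ in
theorem exists_nu (ω : Fin i → (E ⟶ G y)) :
    ∃ ν : L ⟶ G y, ∀ (U : X.affineOpens) (z : Γ(L, U.1)),
      ν.app U.1 z = exteriorPower.alternatingMapLinearEquiv (detA y ω U.1) (φ U z) := by
  obtain ⟨ν, hν⟩ := KosExt.exists_hom_affine L (G y)
    (fun U => (exteriorPower.alternatingMapLinearEquiv (detA y ω U.1)).comp (φ U).toLinearMap) (fun U V h z => by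
      rw [← (φ U).symm_apply_apply z]
      generalize φ U z = w
      have hw : w ∈ Submodule.span Γ(X, U.1)
          (Set.range (exteriorPower.ιMulti Γ(X, U.1) i (M := Γ(E, U.1)))) := by
        rw [exteriorPower.ιMulti_span]; exact Submodule.mem_top
      induction hw using Submodule.span_induction with
      | mem w hw =>
        obtain ⟨e, rfl⟩ := hw
        simp only [LinearMap.comp_apply, LinearEquiv.coe_coe, LinearEquiv.apply_symm_apply,
          exteriorPower.alternatingMapLinearEquiv_apply_ιMulti, hφ U V h e, detA_res]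
      | zero => simp only [map_zero]
      | add a b _ _ h1 h2 => simp only [map_add, h1, h2]
      | smul r a _ h1 => simp only [map_smul, res_smul, h1])
  exact ⟨ν, hν⟩

/-- The induced evaluation of the exterior power. -/
def nu (ω : Fin i → (E ⟶ G y)) : L ⟶ G y := (exists_nu y φ hφ ω).choose

theorem nu_app (ω : Fin i → (E ⟶ G y)) (U : X.affineOpens) (z : Γ(L, U.1)) :
    (nu y φ hφ ω).app U.1 z = exteriorPower.alternatingMapLinearEquiv (detA y ω U.1) (φ U z) :=
  (exists_nu y φ hφ ω).choose_spec U z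

theorem nu_symm (ω : Fin i → (E ⟶ G y)) (U : X.affineOpens) (e : Fin i → Γ(E, U.1)) :
    (nu y φ hφ ω).app U.1 ((φ U).symm (exteriorPower.ιMulti _ i e)) = detA y ω U.1 e := by
  rw [nu_app, LinearEquiv.apply_symm_apply, exteriorPower.alternatingMapLinearEquiv_apply_ιMulti]

omit hφ in
theorem hom_ext_gen {P : X.Modules} {a b : L ⟶ P}
    (h : ∀ (U : X.affineOpens) (e : Fin i → Γ(E, U.1)),
      a.app U.1 ((φ U).symm (exteriorPower.ιMulti _ i e)) = b.app U.1 ((φ U).symm (exteriorPower.ιMulti _ i e))) :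
    a = b := by
  refine KosExt.hom_ext_affine fun U z => ?_
  rw [← (φ U).symm_apply_apply z]
  generalize φ U z = w
  have hw : w ∈ Submodule.span Γ(X, U.1)
      (Set.range (exteriorPower.ιMulti Γ(X, U.1) i (M := Γ(E, U.1)))) := by
    rw [exteriorPower.ιMulti_span]; exact Submodule.mem_top
  induction hw using Submodule.span_induction with
  | mem w hw => obtain ⟨e, rfl⟩ := hw; exact h U e
  | zero => simp only [map_zero]
  | add a b _ _ h1 h2 => simp only [map_add, h1, h2]
  | smul r a _ h1 => simp only [map_smul, Scheme.Modules.Hom.app_smul, h1]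

theorem nu_theta (ω : Fin i → (E ⟶ G y)) :
    nu (h ≫ y) φ hφ (fun j => ω j ≫ theta y h) = nu y φ hφ ω ≫ theta y h := by
  refine hom_ext_gen φ fun U e => ?_
  rw [nu_symm, Scheme.Modules.Hom.comp_app, ConcreteCategory.comp_apply, nu_symm]
  apply fn_injective
  rw [fn_theta]
  show (valMat (h ≫ y) (fun j => ω j ≫ theta y h) U.1 e).det = h.app (y ⁻¹ᵁ U.1) (valMat y ω U.1 e).det
  rw [RingHom.map_det]
  rfl

theorem nu_zero (hi : 0 < i) : nu y φ hφ (fun _ => (0 : E ⟶ G y)) = 0 := by
  refine hom_ext_gen φ fun U e => ?_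
  rw [nu_symm, detA_zero y hi]
  simp

/-- Iterated evaluations on tensor powers. -/
def mu (ν : ℕ → (L ⟶ G y)) : (m : ℕ) → (CohB1.tensorPow L m ⟶ G y)
  | 0 => pull y
  | m + 1 => prod y (mu ν m) (ν m)

theorem mu_theta (ν : ℕ → (L ⟶ G y)) (ν' : ℕ → (L ⟶ G (h ≫ y))) (m : ℕ)
    (hν : ∀ j < m, ν' j = ν j ≫ theta y h) : mu (h ≫ y) ν' m = mu y ν m ≫ theta y h := by
  induction m with
  | zero => exact pull_theta y h
  | succ m ih =>
    show prod (h ≫ y) (mu (h ≫ y) ν' m) (ν' m) = prod y (mu y ν m) (ν m) ≫ theta y h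
    rw [ih (fun j hj => hν j (by omega)), hν m (by omega), prod_theta]

theorem mu_zero (ν : ℕ → (L ⟶ G y)) (m : ℕ) (hν : ν m = 0) : mu y ν (m + 1) = 0 := by
  show prod y (mu y ν m) (ν m) = 0
  rw [hν, prod_zero]

end Groth.Agent.REqForms
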