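import Groth.Agent.REqForms.Test
import Groth.Agent.REqForms.Push

/-!
# The natural function on tests given by a tensor of forms
-/

set_option autoImplicit false
set_option linter.style.haveILetI false
set_option backward.isDefEq.respectTransparency false
set_option backward.isDefEq.respectTransparency.types false
set_option maxHeartbeats 800000

universe u

open CategoryTheory AlgebraicGeometry TopologicalSpace Opposite
open Groth.Agent.QC (res resO)

noncomputable section

namespace Groth.Agent.REqForms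

variable {k : Type u} [Field k] {ι : Type} {X : Scheme.{u}} {f : X ⟶ Spec (CommRingCat.of k)}

theorem ΓSpec_nat {R R' : CommRingCat.{u}} (σ : R ⟶ R') (x : Γ(Spec R, ⊤)) :
    (Scheme.ΓSpecIso R').hom ((Spec.map σ).app ⊤ x) = σ ((Scheme.ΓSpecIso R).hom x) :=
  congr(($(Scheme.ΓSpecIso_naturality σ)) x)

theorem ΓSpec_inv_nat {R R' : CommRingCat.{u}} (σ : R ⟶ R') (r : R) :
    (Spec.map σ).app ⊤ ((Scheme.ΓSpecIso R).inv r) = (Scheme.ΓSpecIso R').inv (σ r) :=
  congr(($(Scheme.ΓSpecIso_inv_naturality σ)) r).symm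

variable (t : Test ι (Over.mk f)) (j : ι)

/-- The derivation of a test on global functions. -/
def topDer : Γ(Spec t.R, ⊤) →+ Γ(Coh.structureModule (Spec t.R), ⊤) :=
  (OmegaSh.strSect (Spec t.R) ⊤).comp ((Scheme.ΓSpecIso t.R).inv.hom.toAddMonoidHom.comp
    ((t.D j).comp (Scheme.ΓSpecIso t.R).hom.hom.toAddMonoidHom))

theorem topDer_apply (x : Γ(Spec t.R, ⊤)) : topDer t j x =
    OmegaSh.strSect (Spec t.R) ⊤ ((Scheme.ΓSpecIso t.R).inv (t.D j ((Scheme.ΓSpecIso t.R).hom x))) := rfl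

theorem exists_specDer :
    ∃ E : OmegaSh.Der (Spec.map t.α) (Coh.structureModule (Spec t.R)), ∀ x, E.app ⊤ x = topDer t j x := by
  obtain ⟨a, ha⟩ := OmegaLib.exists_der_of_top (Spec.map t.α) (Coh.structureModule (Spec t.R)) (topDer t j)
    (fun a b => by
      simp only [topDer_apply, ← OmegaSh.strSect_mul, ← map_add]
      congr 1
      rw [map_mul, t.leib j, map_add, map_mul, map_mul, RingHom.id_apply, RingHom.id_apply,
        Iso.hom_inv_id_apply, Iso.hom_inv_id_apply])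
    (fun c => by
      rw [topDer_apply]
      have e : (Scheme.ΓSpecIso t.R).hom ((Spec.map t.α).appTop c) =
          t.α ((Scheme.ΓSpecIso (CommRingCat.of k)).hom c) := ΓSpec_nat t.α c
      rw [e, t.base, map_zero, map_zero])
  refine ⟨(OmegaSh.dOmega (Spec.map t.α)).postcomp a.val, fun x => ?_⟩
  exact (OmegaLib.postcomp_app _ _ ⊤ x).trans (ha x)

/-- The derivation of a test on the structure sheaf. -/
def specDer : OmegaSh.Der (Spec.map t.α) (Coh.structureModule (Spec t.R)) := (exists_specDer t j).choose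

theorem specDer_top (x : Γ(Spec t.R, ⊤)) : (specDer t j).app ⊤ x = topDer t j x :=
  (exists_specDer t j).choose_spec x

theorem test_sq : Spec.map t.α ≫ 𝟙 (Spec (CommRingCat.of k)) = t.y ≫ f :=
  (Category.comp_id _).trans t.w.symm

/-- The derivation of a test pushed to the scheme. -/
def tDer : OmegaSh.Der f (G t.y) := OmegaLib.sqDer (test_sq t) (specDer t j)

theorem tDer_app (U : X.Opens) (a : Γ(X, U)) :
    fn t.y U ((tDer t j).app U a) = OmegaSh.fnSect (Spec t.R) _ ((specDer t j).app (t.y ⁻¹ᵁ U) (t.y.app U a)) := rfl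

theorem exists_om [QuasiSeparated f] : ∃ ω : Omega.sheaf f ⟶ G t.y,
    ∀ (U : X.Opens) (a : Γ(X, U)), ω.app U ((OmegaSh.dOmega f).app U a) = (tDer t j).app U a := by
  obtain ⟨ω, hω, -⟩ := OmegaLib.isUniversal_dOmega f (G t.y) (tDer t j)
  exact ⟨ω, fun U a => congrArg (fun E : OmegaSh.Der f (G t.y) => E.app U a) hω⟩

/-- The linear form on differentials of a test. -/
def om [QuasiSeparated f] : Omega.sheaf f ⟶ G t.y := (exists_om t j).choose

theorem om_d [QuasiSeparated f] (U : X.Opens) (a : Γ(X, U)) :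
    (om t j).app U ((OmegaSh.dOmega f).app U a) = (tDer t j).app U a := (exists_om t j).choose_spec U a

theorem specDer_zero (hD : ∀ r, t.D j r = 0) (O : (Spec t.R).Opens) (a : Γ(Spec t.R, O)) :
    (specDer t j).app O a = 0 := by
  refine (OmegaLib.app_eq_of_affine (specDer t j) ((specDer t j).postcomp (0 : Coh.structureModule (Spec t.R) ⟶
    Coh.structureModule (Spec t.R)).val) (isAffineOpen_top _) (fun a => ?_) O le_top a).trans ?_
  · rw [OmegaLib.postcomp_app, specDer_top, topDer_apply, hD]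
    simp
  · rw [OmegaLib.postcomp_app]
    simp

theorem om_zero [QuasiSeparated f] (hD : ∀ r, t.D j r = 0) : om t j = 0 := by
  refine OmegaLib.hom_ext (OmegaLib.isUniversal_dOmega f) _ _ fun U a => ?_
  rw [om_d]
  apply fn_injective
  rw [tDer_app, specDer_zero t j hD, map_zero]
  simp

theorem om_theta [QuasiSeparated f] {R' : CommRingCat.{u}} (σ : t.R ⟶ R') (α' : CommRingCat.of k ⟶ R')
    (w' : (Spec.map σ ≫ t.y) ≫ f = Spec.map α') (D' : ι → R' →+ R')
    (l' : ∀ j, Leib (RingHom.id R') (D' j)) (b' : ∀ j c, D' j (α' c) = 0)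
    (hD : ∀ j r, D' j (σ r) = σ (t.D j r)) :
    om (f := f) (⟨R', α', Spec.map σ ≫ t.y, w', D', l', b'⟩ : Test ι (Over.mk f)) j =
      om t j ≫ theta t.y (Spec.map σ) := by
  set t' : Test ι (Over.mk f) := ⟨R', α', Spec.map σ ≫ t.y, w', D', l', b'⟩
  refine OmegaLib.hom_ext (OmegaLib.isUniversal_dOmega f) _ _ fun U a => ?_
  rw [om_d, Scheme.Modules.Hom.comp_app, ConcreteCategory.comp_apply, om_d]
  apply fn_injective
  have hsq : Spec.map α' ≫ 𝟙 (Spec (CommRingCat.of k)) = Spec.map σ ≫ Spec.map t.α := by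
    rw [Category.comp_id, ← w', Category.assoc]
    exact congrArg (Spec.map σ ≫ ·) t.w
  have key := OmegaLib.app_eq_of_affine (OmegaLib.sqDer hsq (specDer t' j))
    ((specDer t j).postcomp (pull (Spec.map σ)).val) (isAffineOpen_top (Spec t.R)) (fun x => ?_)
    (t.y ⁻¹ᵁ U) le_top (t.y.app U a)
  · exact congrArg (fn (Spec.map σ) (t.y ⁻¹ᵁ U)) key
  · apply fn_injective
    rw [OmegaLib.postcomp_app, specDer_top, fn_pull, topDer_apply]
    show OmegaSh.fnSect (Spec R') _ ((specDer t' j).app ⊤ ((Spec.map σ).app ⊤ x)) = _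
    rw [specDer_top, topDer_apply]
    show (Scheme.ΓSpecIso R').inv (D' j ((Scheme.ΓSpecIso R').hom ((Spec.map σ).app ⊤ x))) =
      (Spec.map σ).app ⊤ ((Scheme.ΓSpecIso t.R).inv (t.D j ((Scheme.ΓSpecIso t.R).hom x)))
    rw [ΓSpec_inv_nat, ΓSpec_nat, hD]

section value

variable [QuasiSeparated f] {i m : ℕ} {L : X.Modules} (φ : Ident i (Omega.sheaf f) L)
  (hφ : ∀ (U V : X.affineOpens) (h : V.1 ≤ U.1) (e : Fin i → Γ(Omega.sheaf f, U.1)),
    res L h ((φ U).symm (exteriorPower.ιMulti _ i e)) =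
      (φ V).symm (exteriorPower.ιMulti _ i (fun j => res (Omega.sheaf f) h (e j))))

/-- The linear forms on the exterior power of a test. -/
def nus (t : Test (Fin m × Fin i) (Over.mk f)) (a : ℕ) : L ⟶ G t.y :=
  if ha : a < m then nu t.y φ hφ (fun l => om t (⟨a, ha⟩, l)) else 0

/-- The value of a tensor of forms at a test. -/
def value (s : Γ(CohB1.tensorPow L m, ⊤)) (t : Test (Fin m × Fin i) (Over.mk f)) : t.R :=
  (Scheme.ΓSpecIso t.R).hom (fn t.y ⊤ ((mu t.y (nus φ hφ t) m).app ⊤ s))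

theorem value_nat_aux (s : Γ(CohB1.tensorPow L m, ⊤)) (t : Test (Fin m × Fin i) (Over.mk f))
    {R' : CommRingCat.{u}} (σ : t.R ⟶ R') (α' : CommRingCat.of k ⟶ R') (y' : Spec R' ⟶ X)
    (hy : y' = Spec.map σ ≫ t.y) (w' : y' ≫ f = Spec.map α') (D' : Fin m × Fin i → R' →+ R')
    (l' : ∀ j, Leib (RingHom.id R') (D' j)) (b' : ∀ j c, D' j (α' c) = 0)
    (hD : ∀ j r, D' j (σ r) = σ (t.D j r)) :
    σ (value φ hφ s t) = value φ hφ s (⟨R', α', y', w', D', l', b'⟩ : Test _ (Over.mk f)) := by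
  subst hy
  have e : mu (Spec.map σ ≫ t.y) (nus φ hφ (⟨R', α', Spec.map σ ≫ t.y, w', D', l', b'⟩ : Test _ (Over.mk f))) m =
      mu t.y (nus φ hφ t) m ≫ theta t.y (Spec.map σ) := by
    refine mu_theta t.y (Spec.map σ) _ _ m fun a ha => ?_
    simp only [nus, dif_pos ha]
    rw [← nu_theta]
    congr 1
    funext l
    exact om_theta t _ σ α' w' D' l' b' hD
  show σ (value φ hφ s t) =
    (Scheme.ΓSpecIso R').hom (fn (Spec.map σ ≫ t.y) ⊤ ((mu (Spec.map σ ≫ t.y) _ m).app ⊤ s))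
  rw [e]
  exact (ΓSpec_nat σ (fn t.y ⊤ ((mu t.y (nus φ hφ t) m).app ⊤ s))).symm

theorem value_nat (s : Γ(CohB1.tensorPow L m, ⊤)) (t t' : Test (Fin m × Fin i) (Over.mk f)) (σ : t.R ⟶ t'.R)
    (h : Rel t t' σ) : σ (value φ hφ s t) = value φ hφ s t' :=
  value_nat_aux φ hφ s t σ t'.α t'.y h.y_eq t'.w t'.D t'.leib t'.base h.D_eq

theorem value_zero (hi : 0 < i) (hm : 0 < m) (s : Γ(CohB1.tensorPow L m, ⊤))
    (t : Test (Fin m × Fin i) (Over.mk f)) (hD : ∀ j r, t.D j r = 0) : value φ hφ s t = 0 := by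
  obtain ⟨m, rfl⟩ : ∃ a, m = a + 1 := ⟨m - 1, by omega⟩
  have hn : nus φ hφ t m = 0 := by
    rw [nus, dif_pos (Nat.lt_succ_self m)]
    rw [show (fun l => om t ((⟨m, Nat.lt_succ_self m⟩ : Fin (m + 1)), l)) = fun _ => 0 from
      funext fun l => om_zero t _ (hD _)]
    exact nu_zero t.y φ hφ hi
  rw [value, mu_zero t.y _ m hn]
  simp only [Scheme.Modules.Hom.zero_app]
  erw [map_zero]

/-- The natural function of a tensor of forms. -/
def evalFn (s : Γ(CohB1.tensorPow L m, ⊤)) : Fn (Fin m × Fin i) (Over.mk f) :=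
  ⟨value φ hφ s, fun t t' σ h => value_nat φ hφ s t t' σ h⟩

end value

end Groth.Agent.REqForms
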