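import Groth.Agent.REqForms.Test
import Groth.Agent.REqLine.Proj
import Groth.Agent.QC.Sections

/-!
# Natural functions on tests are invariant under the projective line
-/

set_option autoImplicit false
set_option linter.style.haveILetI false
set_option backward.isDefEq.respectTransparency false
set_option backward.isDefEq.respectTransparency.types false
set_option synthInstance.maxHeartbeats 400000
set_option maxHeartbeats 1000000

universe u

open CategoryTheory CategoryTheory.Limits AlgebraicGeometry Opposite Polynomial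

noncomputable section

namespace Groth.Agent.REqForms

open GrassPlucker

/-- The tuple with `1` at `i` and `a` elsewhere. -/
def tup {B : Type u} [CommRing B] (i : Fin (1 + 1)) (a : B) : Fin (1 + 1) → B :=
  Function.update (fun _ => a) i 1

theorem tup_self {B : Type u} [CommRing B] (i : Fin (1 + 1)) (a : B) : tup i a i = 1 :=
  Function.update_self _ _ _

theorem map_tup {B C : Type u} [CommRing B] [CommRing C] (φ : B →+* C) (i : Fin (1 + 1)) (a : B) :
    (fun j => φ (tup i a j)) = tup i (φ a) := by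
  funext j
  rcases eq_or_ne j i with rfl | h
  · simp [tup]
  · simp [tup, h]

theorem tup_flip {B : Type u} [CommRing B] (i : Fin (1 + 1)) (a b : B) (h : a * b = 1) :
    tup (i + 1) b = fun j => b * tup i a j := by
  funext j
  fin_cases i <;> fin_cases j <;> simp [tup, mul_comm b a, h]

/-- The point with coordinate `a` in the `i`-th chart. -/
def cpt {B : Type u} [CommRing B] (i : Fin (1 + 1)) (a : B) :
    Spec (CommRingCat.of B) ⟶ Proj (Gr.{u} 1) :=
  pt (tup i a) i (by rw [tup_self]; exact isUnit_one)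

theorem pt_congr {B : Type u} [CommRing B] {m : ℕ} {p q : Fin (m + 1) → B} (i : Fin (m + 1)) (e : p = q)
    (hp : IsUnit (p i)) (hq : IsUnit (q i)) : pt p i hp = pt q i hq := by
  subst e
  rfl

theorem cpt_map {B C : Type u} [CommRing B] [CommRing C] (φ : B →+* C) (i : Fin (1 + 1)) (a : B) :
    Spec.map (CommRingCat.ofHom φ) ≫ cpt i a = cpt i (φ a) := by
  rw [cpt, pt_comp]
  exact pt_congr i (map_tup φ i a) _ _

theorem cpt_flip {B : Type u} [CommRing B] (i : Fin (1 + 1)) (a b : B) (h : a * b = 1) :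
    cpt (i + 1) b = cpt i a := by
  have hb : IsUnit b := IsUnit.of_mul_eq_one a (by rw [mul_comm, h])
  have hi : IsUnit (tup i a i) := by rw [tup_self]; exact isUnit_one
  have hi' : IsUnit (tup i a (i + 1)) := by
    have : tup i a (i + 1) = a := by fin_cases i <;> simp [tup]
    rw [this]
    exact IsUnit.of_mul_eq_one b h
  rw [cpt, cpt, pt_congr (i + 1) (tup_flip i a b h) _ (hb.mul hi'), pt_smul (tup i a) (i + 1) hi' hb]
  exact pt_eq _ _ _ _ _

/-- Points are locally in a chart. -/
theorem exists_cpt {R : CommRingCat.{u}} (q : Spec R ⟶ Proj (Gr.{u} 1)) (p : Spec R) :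
    ∃ (f : R) (_ : f ∉ p.asIdeal) (i : Fin (1 + 1)) (a : Localization.Away f),
      Spec.map (CommRingCat.ofHom (algebraMap R (Localization.Away f))) ≫ q = cpt i a := by
  obtain ⟨i, hi⟩ : ∃ i, q p ∈ Proj.basicOpen (Gr.{u} 1) (MvPolynomial.X i) :=
    TopologicalSpace.Opens.mem_iSup.1 (by rw [iSup_basicOpen_X (m := 1)]; trivial)
  obtain ⟨_, ⟨_, ⟨f, rfl⟩, rfl⟩, hfp, hle⟩ :=
    PrimeSpectrum.isBasis_basic_opens.exists_subset_of_mem_open
      (show p ∈ ((q ⁻¹ᵁ Proj.basicOpen (Gr.{u} 1) (MvPolynomial.X i) : (Spec R).Opens) : Set _) from hi)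
      (q ⁻¹ᵁ Proj.basicOpen (Gr.{u} 1) (MvPolynomial.X i)).2
  let j := Spec.map (CommRingCat.ofHom (algebraMap R (Localization.Away f)))
  have hr : Set.range (j ≫ q) ⊆
      Set.range (Proj.awayι (Gr.{u} 1) (MvPolynomial.X i) (GrassPlucker.X_mem i) one_pos) := by
    rintro _ ⟨z, rfl⟩
    rw [← Scheme.Hom.coe_opensRange, Proj.opensRange_awayι]
    refine hle ?_
    have hz : j z ∈ Set.range (PrimeSpectrum.comap (algebraMap R (Localization.Away f))) := ⟨z, rfl⟩
    rw [PrimeSpectrum.localization_away_comap_range (Localization.Away f) f] at hz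
    exact hz
  obtain ⟨φ, hφ⟩ := Spec.map_surjective (IsOpenImmersion.lift _ (j ≫ q) hr)
  obtain ⟨t, ht, h, hid⟩ := REqLine.locPt_ratios (m := 1) i
  refine ⟨f, hfp, i, φ.hom (t (i + 1)), ?_⟩
  have ht' : t = tup i (t (i + 1)) := by
    funext j
    fin_cases i <;> fin_cases j <;> simp_all [tup]
  have h' : IsUnit (ev (fun j => φ.hom (t j)) (MvPolynomial.X i : Poly.{u} 1)) := by simp [ht]
  have key : pt (fun j => φ.hom (t j)) i (by simpa using h') = j ≫ q := by
    rw [pt, ← locPt_comp φ.hom t h h', hid, RingHom.comp_id, CommRingCat.ofHom_hom, hφ]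
    exact IsOpenImmersion.lift_fac _ _ _
  refine key.symm.trans (pt_congr i ?_ _ _)
  conv_lhs => rw [ht']
  exact map_tup φ.hom i _

/-- The algebra fact behind invariance. -/
theorem const_of_flip {R L : Type u} [CommRing R] [CommRing L] [Algebra R[X] L]
    [IsLocalization.Away (X : R[X]) L] (v : L) (hv : algebraMap R[X] L X * v = 1) (g h : R[X])
    (e : algebraMap R[X] L g = eval₂ ((algebraMap R[X] L).comp C) v h) :
    ∃ c : R, g = C c ∧ h = C c := by
  let N := h.natDegree
  letI : Invertible v := ⟨algebraMap R[X] L X, hv, by rw [mul_comm, hv]⟩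
  have h1 := eval₂_reflect_mul_pow ((algebraMap R[X] L).comp C) v N h le_rfl
  have hX : ∀ q : R[X], eval₂ ((algebraMap R[X] L).comp C) (algebraMap R[X] L X) q = algebraMap R[X] L q := by
    intro q
    conv_rhs => rw [← eval₂_C_X (p := q)]
    exact (hom_eval₂ q C (algebraMap R[X] L) X).symm
  rw [show (⅟v) = algebraMap R[X] L X from rfl, hX, ← e] at h1
  have h2 : algebraMap R[X] L (g * X ^ N) = algebraMap R[X] L (reflect N h) := by
    rw [map_mul, map_pow, ← h1, mul_assoc, ← mul_pow, mul_comm v, hv, one_pow, mul_one]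
  have hinj : Function.Injective (algebraMap R[X] L) :=
    IsLocalization.injective L (Submonoid.powers_le.2 (monic_X.mem_nonZeroDivisors))
  have h3 := hinj h2
  have hg : ∀ n, 1 ≤ n → g.coeff n = 0 := fun n hn => by
    have := congrArg (fun p => coeff p (n + N)) h3
    simp only [coeff_mul_X_pow, coeff_reflect] at this
    rw [this, revAt_eq_self_of_lt (by omega)]
    exact coeff_eq_zero_of_natDegree_lt (by omega)
  have hh : ∀ n, 1 ≤ n → h.coeff n = 0 := fun n hn => by
    by_cases hnN : n ≤ N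
    · have := congrArg (fun p => coeff p (N - n)) h3
      simp only [coeff_mul_X_pow', coeff_reflect, revAt_le (Nat.sub_le N n)] at this
      rw [show N - (N - n) = n from by omega, if_neg (by omega)] at this
      exact this.symm
    · exact coeff_eq_zero_of_natDegree_lt (by omega)
  have h0 : g.coeff 0 = h.coeff 0 := by
    have := congrArg (fun p => coeff p N) h3
    simp only [coeff_mul_X_pow', coeff_reflect, revAt_le le_rfl, Nat.sub_self, le_refl, if_true] at this
    exact this
  refine ⟨g.coeff 0, ?_, ?_⟩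
  · ext n
    rcases Nat.eq_zero_or_pos n with rfl | hn
    · simp
    · rw [hg n hn, coeff_C, if_neg (by omega)]
  · ext n
    rcases Nat.eq_zero_or_pos n with rfl | hn
    · simp [h0]
    · rw [hh n hn, coeff_C, if_neg (by omega)]

variable {k : Type u} [Field k] {ι : Type}

/-- The relative projective line. -/
abbrev P1Of (Y : Over (Spec (CommRingCat.of k))) : Over (Spec (CommRingCat.of k)) :=
  Over.mk (CohB1.ProjSpaceOver.toBase 1 Y.left ≫ Y.hom)

/-- Its projection. -/
abbrev p1Proj (Y : Over (Spec (CommRingCat.of k))) : P1Of Y ⟶ Y :=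
  Over.homMk (CohB1.ProjSpaceOver.toBase 1 Y.left) rfl

variable {Y : Over (Spec (CommRingCat.of k))}

/-- A test on the projective line. -/
def liftT (t : Test ι Y) (q : Spec t.R ⟶ Proj (Gr.{u} 1)) : Test ι (P1Of Y) where
  R := t.R
  α := t.α
  y := pullback.lift q t.y (specULiftZIsTerminal.hom_ext _ _)
  w := (pullback.lift_snd_assoc _ _ _ _).trans t.w
  D := t.D
  leib := t.leib
  base := t.base

theorem liftT_rel {t t' : Test ι Y} {σ : t.R ⟶ t'.R} (h : Rel t t' σ) {q : Spec t.R ⟶ Proj (Gr.{u} 1)}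
    {q' : Spec t'.R ⟶ Proj (Gr.{u} 1)} (hq : q' = Spec.map σ ≫ q) : Rel (liftT t q) (liftT t' q') σ := by
  refine ⟨?_, h.D_eq⟩
  show pullback.lift q' t'.y _ = Spec.map σ ≫ pullback.lift q t.y _
  apply pullback.hom_ext
  · rw [Category.assoc, pullback.lift_fst, pullback.lift_fst, hq]
  · rw [Category.assoc, pullback.lift_snd, pullback.lift_snd, h.y_eq]

/-- The value at a point of a chart. -/
def val (G : Fn ι (P1Of Y)) (t : Test ι Y) (i : Fin (1 + 1)) (a : t.R) : t.R :=
  G.1 (liftT t (cpt i a))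

theorem val_nat (G : Fn ι (P1Of Y)) {t t' : Test ι Y} {σ : t.R ⟶ t'.R} (h : Rel t t' σ) (i : Fin (1 + 1))
    (a : t.R) : σ (val G t i a) = val G t' i (σ a) :=
  G.2 (liftT t (cpt i a)) (liftT t' (cpt i (σ a))) σ (liftT_rel h (cpt_map σ.hom i a).symm)

/-- A test extended along a ring map. -/
def extT {Y : Over (Spec (CommRingCat.of k))} (t : Test ι Y) {R' : CommRingCat.{u}} (σ : t.R ⟶ R')
    (D : ι → R' →+ R') (h1 : ∀ j, Leib (RingHom.id R') (D j)) (h2 : ∀ j r, D j (σ r) = σ (t.D j r)) : Test ι Y where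
  R := R'
  α := t.α ≫ σ
  y := Spec.map σ ≫ t.y
  w := by rw [Category.assoc, t.w, Spec.map_comp]
  D := D
  leib := h1
  base := fun j c => by
    show D j (σ (t.α c)) = 0
    rw [h2, t.base, map_zero]

theorem extT_rel {Y : Over (Spec (CommRingCat.of k))} (t : Test ι Y) {R' : CommRingCat.{u}} (σ : t.R ⟶ R')
    (D : ι → R' →+ R') (h1 : ∀ j, Leib (RingHom.id R') (D j)) (h2 : ∀ j r, D j (σ r) = σ (t.D j r)) :
    Rel t (extT t σ D h1 h2) σ :=
  ⟨rfl, h2⟩

/-- Evaluation of a polynomial test. -/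
theorem rel_eval (t : Test ι Y) (b : t.R) (D : ι → t.R[X] →+ t.R[X]) (h1 : ∀ j, Leib (RingHom.id t.R[X]) (D j))
    (h2 : ∀ j r, D j (C r) = C (t.D j r)) (hb : ∀ j, t.D j b = eval b (D j X)) :
    Rel (extT t (CommRingCat.ofHom (C : t.R →+* t.R[X])) D h1 h2) t (CommRingCat.ofHom (evalRingHom b)) := by
  refine ⟨?_, fun j p => ?_⟩
  · show t.y = Spec.map _ ≫ Spec.map (CommRingCat.ofHom (C : t.R →+* t.R[X])) ≫ t.y
    have : CommRingCat.ofHom (C : t.R →+* t.R[X]) ≫ CommRingCat.ofHom (evalRingHom b) = 𝟙 t.R := by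
      ext r; exact eval_C
    rw [← Category.assoc, ← Spec.map_comp]
    refine ((congrArg (fun g => Spec.map g ≫ t.y) this).trans ?_).symm
    erw [Spec.map_id, Category.id_comp]
  · refine DFunLike.congr_fun (Leib.ext_poly (φ := evalRingHom b)
      (d := (t.D j).comp (evalRingHom b).toAddMonoidHom) (e := (evalRingHom b).toAddMonoidHom.comp (D j))
      ?_ ?_ (fun r => ?_) ?_) p
    · simpa using (t.leib j).pre (evalRingHom b)
    · simpa using (h1 j).post (evalRingHom b)
    · show t.D j (eval b (C r)) = eval b (D j (C r))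
      rw [h2, eval_C, eval_C]
    · show t.D j (eval b X) = eval b (D j X)
      rw [eval_X, hb j]

/-- A Leibniz function at an inverse. -/
theorem Leib.inv {S : Type u} [CommRing S] {d : S →+ S} (h : Leib (RingHom.id S) d) (x v : S) (hv : x * v = 1) :
    d v = -d x * v ^ 2 := by
  have h0 : d (x * v) = 0 := by rw [hv]; exact h.one
  rw [h, RingHom.id_apply, RingHom.id_apply] at h0
  calc d v = (x * v) * d v := by rw [hv, one_mul]
    _ = v * (x * d v + v * d x) - v ^ 2 * d x := by ring
    _ = _ := by rw [h0]; ring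

/-- The inverse chart of the punctured line. -/
theorem rel_inv (t : Test ι Y) {L : Type u} [CommRing L] [Algebra t.R[X] L] (v : L)
    (hv : algebraMap t.R[X] L X * v = 1) (b : ι → t.R)
    (DT DU : ι → t.R[X] →+ t.R[X]) (hT1 : ∀ j, Leib (RingHom.id t.R[X]) (DT j))
    (hU1 : ∀ j, Leib (RingHom.id t.R[X]) (DU j))
    (hT2 : ∀ j r, DT j (C r) = C (t.D j r)) (hU2 : ∀ j r, DU j (C r) = C (t.D j r))
    (hT3 : ∀ j, DT j X = C (b j)) (hU3 : ∀ j, DU j X = -C (b j) * X ^ 2)
    (DL : ι → L →+ L) (hL1 : ∀ j, Leib (RingHom.id L) (DL j))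
    (hL2 : ∀ j p, DL j (algebraMap t.R[X] L p) = algebraMap t.R[X] L (DT j p)) :
    Rel (extT t (CommRingCat.ofHom (C : t.R →+* t.R[X])) DU hU1 hU2)
      (extT (extT t (CommRingCat.ofHom (C : t.R →+* t.R[X])) DT hT1 hT2)
        (CommRingCat.ofHom (algebraMap t.R[X] L)) DL hL1 hL2)
      (CommRingCat.ofHom (eval₂RingHom ((algebraMap t.R[X] L).comp C) v)) := by
  refine ⟨?_, fun j p => ?_⟩
  · show Spec.map _ ≫ Spec.map _ ≫ t.y = Spec.map _ ≫ Spec.map _ ≫ t.y
    simp only [← Category.assoc, ← Spec.map_comp]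
    congr 2
    ext r
    exact (eval₂_C _ _).symm
  · let σ := eval₂RingHom ((algebraMap t.R[X] L).comp C) v
    refine DFunLike.congr_fun (Leib.ext_poly (φ := σ) (d := (DL j).comp σ.toAddMonoidHom)
      (e := σ.toAddMonoidHom.comp (DU j)) ?_ ?_ (fun r => ?_) ?_) p
    · simpa using (hL1 j).pre σ
    · simpa using (hU1 j).post σ
    · show DL j (σ (C r)) = σ (DU j (C r))
      simp only [σ, coe_eval₂RingHom, eval₂_C, RingHom.comp_apply, hL2, hT2, hU2]
    · show DL j (σ X) = σ (DU j X)
      rw [(hU3 j), (hL1 j).inv _ v hv |> (fun e => show DL j (σ X) = _ by rw [show σ X = v from eval₂_X _ _, e])]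
      simp [σ, hL2, hT3]

theorem flip_val (G : Fn ι (P1Of Y)) (t : Test ι Y) (i : Fin (1 + 1)) (x v : t.R) (hv : x * v = 1) :
    val G t i x = val G t (i + 1) v := by
  rw [val, val, cpt_flip i x v hv]

theorem val_const (G : Fn ι (P1Of Y)) (t : Test ι Y) (i : Fin (1 + 1)) (a : t.R) :
    val G t i a = val G t (i + 1) 0 := by
  choose DT hT1 hT2 hT3 using fun j => exists_poly (t.leib j) (C (t.D j a))
  choose DU hU1 hU2 hU3 using fun j => exists_poly (t.leib j) (-C (t.D j a) * X ^ 2)
  choose DL hL1 hL2 using fun j => exists_away (hT1 j) X (Localization.Away (X : t.R[X]))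
  let tT := extT t (CommRingCat.ofHom (C : t.R →+* t.R[X])) DT hT1 hT2
  let tU := extT t (CommRingCat.ofHom (C : t.R →+* t.R[X])) DU hU1 hU2
  let σT : tT.R ⟶ CommRingCat.of (Localization.Away (X : t.R[X])) := CommRingCat.ofHom (algebraMap _ _)
  let tL := extT tT σT DL hL1 hL2
  have hv : algebraMap t.R[X] (Localization.Away (X : t.R[X])) X * IsLocalization.Away.invSelf (X : t.R[X]) = 1 :=
    IsLocalization.Away.mul_invSelf _
  have rU := rel_inv t _ hv (fun j => t.D j a) DT DU hT1 hU1 hT2 hU2 hT3 hU3 DL hL1 hL2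
  have key : σT (val G tT i X) =
      eval₂ ((algebraMap t.R[X] (Localization.Away (X : t.R[X]))).comp C) (IsLocalization.Away.invSelf (X : t.R[X]))
        (val G tU (i + 1) X) := by
    refine ((val_nat G (extT_rel tT σT DL hL1 hL2) i X).trans (flip_val G tL i _ _ hv)).trans ?_
    refine Eq.trans ?_ (val_nat G rU (i + 1) X).symm
    exact congrArg (val G tL (i + 1)) (eval₂_X _ _).symm
  obtain ⟨c, hc1, hc2⟩ := const_of_flip _ hv (val G tT i X) (val G tU (i + 1) X) key
  have ra : eval a (val G tT i X) = val G t i (eval a X) :=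
    val_nat G (rel_eval t a DT hT1 hT2 (fun j => by rw [hT3, eval_C])) i X
  have r0 : eval 0 (val G tU (i + 1) X) = val G t (i + 1) (eval 0 X) :=
    val_nat G (rel_eval t 0 DU hU1 hU2 (fun j => by
      rw [hU3, eval_mul, eval_pow, eval_X, map_zero, zero_pow two_ne_zero, mul_zero])) (i + 1) X
  rw [hc1, eval_C, eval_X] at ra
  rw [hc2, eval_C, eval_X] at r0
  exact ra.symm.trans r0

theorem val_eq (G : Fn ι (P1Of Y)) (t : Test ι Y) (i : Fin (1 + 1)) (a : t.R) :
    val G t i a = val G t 0 0 := by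
  have h10 : val G t 1 0 = val G t 0 0 := val_const G t 1 0
  rw [val_const G t i a]
  fin_cases i
  · exact h10
  · rfl

/-- A function vanishing locally vanishes. -/
theorem eq_of_local {R : CommRingCat.{u}} (x y : R)
    (h : ∀ p : Spec R, ∃ f : R, f ∉ p.asIdeal ∧
      algebraMap R (Localization.Away f) x = algebraMap R (Localization.Away f) y) : x = y := by
  let I : Ideal R :=
    { carrier := {r | r * x = r * y}
      add_mem' := fun {a b} (ha : a * x = a * y) (hb : b * x = b * y) => show (a + b) * x = (a + b) * y by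
        rw [add_mul, add_mul, ha, hb]
      zero_mem' := show (0 : R) * x = 0 * y by rw [zero_mul, zero_mul]
      smul_mem' := fun c a (ha : a * x = a * y) => show c * a * x = c * a * y by rw [mul_assoc, ha, mul_assoc] }
  suffices I = ⊤ by simpa [I] using this.ge (Submodule.mem_top (x := (1 : R)))
  by_contra hI
  obtain ⟨M, hM, hle⟩ := Ideal.exists_le_maximal I hI
  obtain ⟨f, hf, e⟩ := h ⟨M, hM.isPrime⟩
  obtain ⟨⟨_, n, rfl⟩, hn⟩ := (IsLocalization.eq_iff_exists (Submonoid.powers f) _).1 e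
  exact hf (hM.isPrime.mem_of_pow_mem n (hle hn))

theorem liftT_push (G : Fn ι (P1Of Y)) (t' : Test ι (P1Of Y)) (i : Fin (1 + 1)) (a : t'.R)
    (hq : t'.y ≫ pullback.fst _ _ = cpt i a) : G.1 t' = val G (t'.push (p1Proj Y)) i a := by
  have hy : (liftT (t'.push (p1Proj Y)) (cpt i a)).y = t'.y := by
    show pullback.lift (cpt i a) (t'.y ≫ CohB1.ProjSpaceOver.toBase 1 Y.left) _ = t'.y
    apply pullback.hom_ext
    · rw [pullback.lift_fst]
      exact hq.symm
    · rw [pullback.lift_snd]
      rfl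
  rw [val]
  exact (Fn.congr_y G t' (liftT (t'.push (p1Proj Y)) (cpt i a)).y
    (liftT (t'.push (p1Proj Y)) (cpt i a)).w hy).symm

theorem local_eq (G : Fn ι (P1Of Y)) (t' : Test ι (P1Of Y)) (i : Fin (1 + 1)) (a : t'.R)
    (hq : t'.y ≫ pullback.fst _ _ = cpt i a) : G.1 t' = val G (t'.push (p1Proj Y)) 0 0 := by
  rw [liftT_push G t' i a hq]
  exact val_eq G (t'.push (p1Proj Y)) i a

theorem val_push_nat (G : Fn ι (P1Of Y)) {t t' : Test ι (P1Of Y)} {σ : t.R ⟶ t'.R} (h : Rel t t' σ) :
    σ (val G (t.push (p1Proj Y)) 0 0) = val G (t'.push (p1Proj Y)) 0 0 :=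
  (val_nat G (h.push (p1Proj Y)) 0 0).trans (congrArg (val G (t'.push (p1Proj Y)) 0) (map_zero σ.hom))

theorem val_push_eq (G : Fn ι (P1Of Y)) (t' : Test ι (P1Of Y)) : val G (t'.push (p1Proj Y)) 0 0 = G.1 t' := by
  refine eq_of_local (R := t'.R) _ _ fun p => ?_
  obtain ⟨f, hf, i, a, hq⟩ := exists_cpt (R := t'.R) (t'.y ≫ pullback.fst _ _) p
  choose Df hD1 hD2 using fun j => exists_away (t'.leib j) f (Localization.Away f)
  let σ : t'.R ⟶ CommRingCat.of (Localization.Away f) := CommRingCat.ofHom (algebraMap _ _)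
  have r := extT_rel t' σ Df hD1 hD2
  exact ⟨f, hf, (val_push_nat G r).trans ((G.2 t' _ σ r).trans
    (local_eq G (extT t' σ Df hD1 hD2) i a ((Category.assoc _ _ _).trans hq))).symm⟩

/-- Invariance under the projective line. -/
theorem bijective_p1 (Y : Over (Spec (CommRingCat.of k))) :
    Function.Bijective (Fn.map (ι := ι) (p1Proj Y)) := by
  refine ⟨fun F F' h => Fn.ext fun t => ?_, fun G => ?_⟩
  · have e : ∀ F : Fn ι Y, (Fn.map (p1Proj Y) F).1 (liftT t (cpt 0 0)) = F.1 t := fun F =>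
      Fn.congr_y F t _ _ (pullback.lift_snd _ _ _)
    rw [← e F, ← e F', h]
  · exact ⟨⟨fun t => val G t 0 0,
      fun t t' σ h => (val_nat G h 0 0).trans (congrArg (val G t' 0) (map_zero σ.hom))⟩,
      Fn.ext fun t' => val_push_eq G t'⟩

end Groth.Agent.REqForms
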