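import Groth.Agent.REqForms.Detect
import Groth.Agent.REqForms.P1Inv
import Groth.Agent.REqP1.Link
import Groth.Agent.AVOmega.Push
import Groth.Agent.SGA6Ext.Exists
import Groth.Agent.SGA6Ext.Lambda
import Groth.Agent.TMul.Frame

/-!
# Almost R-trivial varieties have no tensor forms
-/

set_option autoImplicit false
set_option linter.style.haveILetI false
set_option backward.isDefEq.respectTransparency false
set_option backward.isDefEq.respectTransparency.types false
set_option maxHeartbeats 800000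

universe u

open CategoryTheory AlgebraicGeometry TopologicalSpace Opposite
open Groth.Agent.QC (res resO res_res section_eq_of_locally)

noncomputable section

namespace Groth.Agent.REqForms

variable {k : Type u} [Field k] {ι : Type} {X : Scheme.{u}} {f : X ⟶ Spec (CommRingCat.of k)}

theorem Fn.map_apply {Y Y' : Over (Spec (CommRingCat.of k))} (g : Y ⟶ Y') (F : Fn ι Y') (t : Test ι Y) :
    (Fn.map g F).1 t = F.1 (t.push g) := rfl

/-- The test of a point with no derivations. -/
def zeroTest (Y : Over (Spec (CommRingCat.of k))) (R : CommRingCat.{u}) (y : Spec R ⟶ Y.left) : Test ι Y where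
  R := R
  α := Spec.preimage (y ≫ Y.hom)
  y := y
  w := (Spec.map_preimage _).symm
  D := fun _ => 0
  leib := fun _ a b => by simp
  base := fun _ _ => rfl

variable (k ι) in
/-- The trivial test of the base. -/
def baseTest : Test ι (Over.mk (𝟙 (Spec (CommRingCat.of k)))) :=
  zeroTest (Over.mk (𝟙 (Spec (CommRingCat.of k)))) (CommRingCat.of k) (𝟙 _)

theorem baseTest_rel (s : Test ι (Over.mk (𝟙 (Spec (CommRingCat.of k))))) : Rel (baseTest k ι) s s.α := by
  refine ⟨?_, fun j a => (s.base j a).trans (map_zero s.α.hom).symm⟩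
  show s.y = Spec.map s.α ≫ 𝟙 _
  exact ((Category.comp_id _).symm.trans s.w).trans (Category.comp_id _).symm

theorem base_value_zero (c : Fn ι (Over.mk (𝟙 (Spec (CommRingCat.of k)))))
    (s : Test ι (Over.mk (𝟙 (Spec (CommRingCat.of k))))) [Nontrivial s.R] (hs : c.1 s = 0)
    (t : Test ι (Over.mk (𝟙 (Spec (CommRingCat.of k))))) : c.1 t = 0 := by
  have h1 : s.α (c.1 (baseTest k ι)) = 0 := (c.2 (baseTest k ι) s s.α (baseTest_rel s)).trans hs
  have h2 : c.1 (baseTest k ι) = 0 := by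
    letI : Field ↑(baseTest k ι).R := inferInstanceAs (Field k)
    exact RingHom.injective s.α.hom (h1.trans (map_zero s.α.hom).symm)
  refine (c.2 (baseTest k ι) t t.α (baseTest_rel t)).symm.trans ?_
  exact (congrArg t.α.hom h2).trans (map_zero _)

/-- Functions on tests of a point, constant zero along a test without derivations, vanish. -/
theorem pt_fn_zero {U : X.Opens} (hU : (U : Set X).Nonempty) (F : Fn ι (Over.mk f))
    (h0 : ∀ t : Test ι (Over.mk f), (∀ j r, t.D j r = 0) → F.1 t = 0)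
    (i : Over.mk (U.ι ≫ f) ⟶ Over.mk f) (q : Over.mk (U.ι ≫ f) ⟶ Over.mk (𝟙 (Spec (CommRingCat.of k))))
    (c : Fn ι (Over.mk (𝟙 (Spec (CommRingCat.of k))))) (hc : Fn.map i F = Fn.map q c)
    (t : Test ι (Over.mk (𝟙 (Spec (CommRingCat.of k))))) : c.1 t = 0 := by
  obtain ⟨u, hu⟩ := hU
  let tU : Test ι (Over.mk (U.ι ≫ f)) :=
    zeroTest (Over.mk (U.ι ≫ f)) _ ((U : Scheme.{u}).fromSpecResidueField ⟨u, hu⟩)
  haveI : Nontrivial (tU.push q).R :=
    inferInstanceAs (Nontrivial ((U : Scheme.{u}).residueField ⟨u, hu⟩))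
  refine base_value_zero c (tU.push q) ?_ t
  rw [← Fn.map_apply, ← hc, Fn.map_apply]
  exact h0 _ fun _ _ => rfl

/-- Functions on tests vanishing on a dense open vanish on charts. -/
theorem chart_value_zero [IsIntegral X] {U : X.Opens} (hU : (U : Set X).Nonempty) (F : Fn ι (Over.mk f))
    (hUF : ∀ t : Test ι (Over.mk (U.ι ≫ f)), (Fn.map (Over.homMk U.ι rfl : Over.mk (U.ι ≫ f) ⟶ Over.mk f) F).1 t = 0)
    {V : X.Opens} (hV : IsAffineOpen V) (hVne : (V : Set X).Nonempty) (t : Test ι (Over.mk f))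
    (e : Γ(X, V) = t.R) (hy : t.y = Spec.map (eqToHom e) ≫ hV.fromSpec) : F.1 t = 0 := by
  obtain ⟨R, α, y, w, D, leib, base⟩ := t
  simp only at e hy
  subst e
  rw [eqToHom_refl, Spec.map_id, Category.id_comp] at hy
  subst hy
  obtain ⟨x, hxV, hxU⟩ := nonempty_preirreducible_inter V.2 U.2 hVne hU
  obtain ⟨g, hg, hxg⟩ := hV.exists_basicOpen_le ⟨x, hxU⟩ hxV
  haveI : Nonempty V := ⟨⟨x, hxV⟩⟩
  have hg0 : g ≠ 0 := by
    rintro rfl
    rw [Scheme.basicOpen_zero] at hxg
    exact hxg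
  let t : Test ι (Over.mk f) := ⟨Γ(X, V), α, hV.fromSpec, w, D, leib, base⟩
  choose Df hD1 hD2 using fun j => exists_away (leib j) g (Localization.Away g)
  let σ : t.R ⟶ CommRingCat.of (Localization.Away g) := CommRingCat.ofHom (algebraMap _ _)
  let tf := extT t σ Df hD1 hD2
  have hr : Set.range (Spec.map σ ≫ hV.fromSpec) ⊆ Set.range U.ι := by
    rintro _ ⟨z, rfl⟩
    rw [Scheme.Opens.range_ι]
    refine hg ?_
    have hz : Spec.map σ z ∈ Set.range (PrimeSpectrum.comap (algebraMap Γ(X, V) (Localization.Away g))) := ⟨z, rfl⟩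
    rw [PrimeSpectrum.localization_away_comap_range (Localization.Away g) g] at hz
    have hz' : Spec.map σ z ∈ hV.fromSpec ⁻¹ᵁ X.basicOpen g := by
      rw [hV.fromSpec_preimage_basicOpen]
      exact hz
    exact hz'
  let tU : Test ι (Over.mk (U.ι ≫ f)) :=
    { R := tf.R
      α := tf.α
      y := IsOpenImmersion.lift U.ι tf.y hr
      w := by
        show IsOpenImmersion.lift U.ι tf.y hr ≫ U.ι ≫ f = _
        rw [IsOpenImmersion.lift_fac_assoc]
        exact tf.w
      D := tf.D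
      leib := tf.leib
      base := tf.base }
  have h1 : F.1 tf = 0 := (Fn.congr_y F tf _ _ (IsOpenImmersion.lift_fac U.ι tf.y hr)).symm.trans (hUF tU)
  have h2 : algebraMap Γ(X, V) (Localization.Away g) (F.1 t) = 0 := (F.2 t tf σ (extT_rel t σ Df hD1 hD2)).trans h1
  exact (IsLocalization.injective (Localization.Away g)
    (Submonoid.powers_le.2 (mem_nonZeroDivisors_of_ne_zero hg0))) (h2.trans (map_zero _).symm)

/-- An almost R-trivial smooth proper variety has no nonzero tensors of forms of positive degree. -/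
theorem section_eq_zero [Infinite k] [IsIntegral X] [IsProper f] [Smooth f] (hR : REq.IsAlmostRTrivial f)
    {i m : ℕ} (hi : 0 < i) (hm : 0 < m) {L : X.Modules} (hL : ExtPow.IsExtPow i (Omega.sheaf f) L)
    (s : Γ(CohB1.tensorPow L m, ⊤)) : s = 0 := by
  have hΩ := AVOmega.isFinLocFree_omega f
  have hLf : FlatMod.IsFinLocFree L := by
    obtain ⟨φ, hφ⟩ := hL
    obtain ⟨ψ, hψ⟩ := SGA6Ext.isExtPow_extSh (Omega.sheaf f) i hΩ
    obtain ⟨e⟩ := SGA6Ext.nonempty_iso_of_phi (φ := ψ) hψ (φ' := φ) hφ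
    exact DQCoh.isFinLocFree_of_iso' e (SGA6Ext.isFinLocFree_extSh (Omega.sheaf f) i hΩ)
  have hpow : ∀ a, FlatMod.IsFinLocFree (CohB1.tensorPow L a) := by
    intro a
    induction a with
    | zero => exact ResDesc.isFinLocFree_of_isInvertible TMul.isInvertible_structureModule
    | succ a ih => exact SGA6Ext.isFinLocFree_tm ih hLf
  obtain ⟨φ, hφ⟩ := hL
  let F := evalFn φ hφ s
  obtain ⟨U, hU, -, hrange⟩ := REqP1.main (Φ := fnFunctor k (Fin m × Fin i)) f
    ⟨⊤, ⟨Classical.arbitrary X, trivial⟩, inferInstance⟩ (fun Y g _ _ _ _ => bijective_p1 (Over.mk g)) hR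
  obtain ⟨c, hc⟩ := hrange.le ⟨F, rfl⟩
  have hc0 := pt_fn_zero hU F (fun t ht => value_zero φ hφ hi hm s t ht) _ _ c hc.symm
  have hUF : ∀ t, (Fn.map (Over.homMk U.ι rfl : Over.mk (U.ι ≫ f) ⟶ Over.mk f) F).1 t = 0 := fun t =>
    (congrArg (fun G : Fn (Fin m × Fin i) (Over.mk (U.ι ≫ f)) => G.1 t) hc).symm.trans (hc0 _)
  refine section_eq_of_locally fun x _ => ?_
  obtain ⟨W, n, e, hxW, he⟩ := TMul.exists_isFrame hΩ x
  obtain ⟨V, hV, hxV, hVW⟩ := exists_isAffineOpen_mem_and_subset (show x ∈ W from hxW)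
  refine ⟨V, le_top, hxV, ?_⟩
  rw [map_zero]
  refine chart_detect hV (Module.Basis.ofEquivFun (he.equiv hVW).symm)
    (fun a => LocFree.isQCoh_of_isFinLocFree (hpow a)) (LocFree.isQCoh_of_isFinLocFree hLf) φ hφ s fun c => ?_
  exact chart_value_zero hU F hUF hV ⟨x, hxV⟩ _ rfl (by
    show hV.fromSpec = Spec.map (eqToHom rfl) ≫ hV.fromSpec
    rw [eqToHom_refl, Spec.map_id, Category.id_comp])

end Groth.Agent.REqForms
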