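import Mathlib

/-!
# Test data with derivations
-/

set_option autoImplicit false
set_option linter.style.haveILetI false
set_option backward.isDefEq.respectTransparency false
set_option synthInstance.maxHeartbeats 400000
set_option maxHeartbeats 1000000

universe u

open CategoryTheory AlgebraicGeometry Opposite Polynomial

noncomputable section

namespace Groth.Agent.REqForms

/-- Leibniz rule along a ring map. -/
def Leib {R S : Type u} [CommRing R] [CommRing S] (φ : R →+* S) (d : R →+ S) : Prop :=
  ∀ a b, d (a * b) = φ a * d b + φ b * d a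

theorem Leib.one {R S : Type u} [CommRing R] [CommRing S] {φ : R →+* S} {d : R →+ S} (h : Leib φ d) :
    d 1 = 0 := by
  simpa using h 1 1

theorem Leib.post {R S T : Type u} [CommRing R] [CommRing S] [CommRing T] {φ : R →+* S} {d : R →+ S}
    (h : Leib φ d) (σ : S →+* T) : Leib (σ.comp φ) (σ.toAddMonoidHom.comp d) := fun a b => by
  simp [h a b]

theorem Leib.pre {R S T : Type u} [CommRing R] [CommRing S] [CommRing T] {φ : R →+* S} {d : R →+ S}
    (h : Leib φ d) (σ : T →+* R) : Leib (φ.comp σ) (d.comp σ.toAddMonoidHom) := fun a b => by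
  simp [h (σ a) (σ b)]

/-- Derivations on polynomials are determined by constants and the variable. -/
theorem Leib.ext_poly {R S : Type u} [CommRing R] [CommRing S] {φ : R[X] →+* S} {d e : R[X] →+ S}
    (hd : Leib φ d) (he : Leib φ e) (hC : ∀ r, d (C r) = e (C r)) (hX : d X = e X) : d = e := by
  refine AddMonoidHom.ext fun p => ?_
  induction p using Polynomial.induction_on with
  | C r => exact hC r
  | add p q hp hq => rw [map_add, map_add, hp, hq]
  | monomial n r ih => rw [pow_succ, ← mul_assoc, hd, he, ih, hX]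

/-- The ring map to dual numbers of a derivation. -/
def dualHom {R S : Type u} [CommRing R] [CommRing S] (φ : R →+* S) (d : R →+ S) (h : Leib φ d) :
    R →+* DualNumber S where
  toFun r := TrivSqZeroExt.inl (φ r) + TrivSqZeroExt.inr (d r)
  map_one' := by ext <;> simp [h.one]
  map_mul' a b := by
    ext
    · simp
    · simp [h a b, mul_comm]
  map_zero' := by ext <;> simp
  map_add' a b := by ext <;> simp

@[simp] theorem fst_dualHom {R S : Type u} [CommRing R] [CommRing S] (φ : R →+* S) (d : R →+ S) (h : Leib φ d)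
    (r : R) : TrivSqZeroExt.fst (dualHom φ d h r) = φ r := by
  simp [dualHom]

@[simp] theorem snd_dualHom {R S : Type u} [CommRing R] [CommRing S] (φ : R →+* S) (d : R →+ S) (h : Leib φ d)
    (r : R) : TrivSqZeroExt.snd (dualHom φ d h r) = d r := by
  simp [dualHom]

/-- The projection of dual numbers. -/
def dualFst (S : Type u) [CommRing S] : DualNumber S →+* S := (TrivSqZeroExt.fstHom S S S).toRingHom

@[simp] theorem dualFst_apply {S : Type u} [CommRing S] (x : DualNumber S) :
    dualFst S x = TrivSqZeroExt.fst x := rfl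

/-- The derivation of a ring map to dual numbers lifting the identity. -/
theorem leib_snd {S : Type u} [CommRing S] (ψ : S →+* DualNumber S) (hψ : ∀ s, TrivSqZeroExt.fst (ψ s) = s) :
    ∃ d : S →+ S, Leib (RingHom.id S) d ∧ ∀ s, d s = TrivSqZeroExt.snd (ψ s) := by
  refine ⟨AddMonoidHom.mk' (fun s => TrivSqZeroExt.snd (ψ s)) (fun a b => by simp), fun a b => ?_, fun _ => rfl⟩
  simp [hψ, mul_comm]

/-- A derivation extended to a localisation. -/
theorem exists_away {R : Type u} [CommRing R] {d : R →+ R} (h : Leib (RingHom.id R) d) (f : R)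
    (S : Type u) [CommRing S] [Algebra R S] [IsLocalization.Away f S] :
    ∃ d' : S →+ S, Leib (RingHom.id S) d' ∧ ∀ a, d' (algebraMap R S a) = algebraMap R S (d a) := by
  have h' : Leib (algebraMap R S) ((algebraMap R S).toAddMonoidHom.comp d) := by
    simpa using h.post (algebraMap R S)
  have hu : IsUnit (dualHom _ _ h' f) :=
    TrivSqZeroExt.isUnit_iff_isUnit_fst.2 (by simpa using IsLocalization.Away.algebraMap_isUnit f)
  let ψ : S →+* DualNumber S := IsLocalization.Away.lift f hu
  have hψ : ∀ a, ψ (algebraMap R S a) = dualHom _ _ h' a := fun a => IsLocalization.Away.lift_eq f hu a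
  have hfst : ∀ s, TrivSqZeroExt.fst (ψ s) = s := by
    have : (dualFst S).comp ψ = RingHom.id S :=
      IsLocalization.ringHom_ext (Submonoid.powers f) (RingHom.ext fun a => by simp [hψ])
    exact fun s => RingHom.congr_fun this s
  obtain ⟨d', h1, h2⟩ := leib_snd ψ hfst
  exact ⟨d', h1, fun a => by rw [h2, hψ]; simp⟩

/-- A derivation extended to polynomials with prescribed value at the variable. -/
theorem exists_poly {R : Type u} [CommRing R] {d : R →+ R} (h : Leib (RingHom.id R) d) (c : R[X]) :
    ∃ d' : R[X] →+ R[X], Leib (RingHom.id _) d' ∧ (∀ a, d' (C a) = C (d a)) ∧ d' X = c := by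
  have h' : Leib (C : R →+* R[X]) ((C : R →+* R[X]).toAddMonoidHom.comp d) := by simpa using h.post (C : R →+* R[X])
  let ψ : R[X] →+* DualNumber R[X] :=
    eval₂RingHom (dualHom _ _ h') (TrivSqZeroExt.inl X + TrivSqZeroExt.inr c)
  have hfst : ∀ s, TrivSqZeroExt.fst (ψ s) = s := by
    have : (dualFst R[X]).comp ψ = RingHom.id _ :=
      Polynomial.ringHom_ext (fun a => by simp [ψ]) (by simp [ψ])
    exact fun s => RingHom.congr_fun this s
  obtain ⟨d', h1, h2⟩ := leib_snd ψ hfst
  exact ⟨d', h1, fun a => by rw [h2]; simp [ψ], by rw [h2]; simp [ψ]⟩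

variable {k : Type u} [Field k] (ι : Type)

/-- An affine test object with derivations over `k`. -/
structure Test (Y : Over (Spec (CommRingCat.of k))) : Type (u + 1) where
  R : CommRingCat.{u}
  α : CommRingCat.of k ⟶ R
  y : Spec R ⟶ Y.left
  w : y ≫ Y.hom = Spec.map α
  D : ι → R →+ R
  leib : ∀ j, Leib (RingHom.id R) (D j)
  base : ∀ j c, D j (α c) = 0

variable {ι} {Y Y' : Over (Spec (CommRingCat.of k))}

/-- A ring map between tests. -/
structure Rel (t t' : Test ι Y) (σ : t.R ⟶ t'.R) : Prop where
  y_eq : t'.y = Spec.map σ ≫ t.y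
  D_eq : ∀ j a, t'.D j (σ a) = σ (t.D j a)

theorem Rel.α_eq {t t' : Test ι Y} {σ : t.R ⟶ t'.R} (h : Rel t t' σ) : t.α ≫ σ = t'.α := by
  refine Spec.map_injective ?_
  rw [Spec.map_comp, ← t.w, ← t'.w, h.y_eq, Category.assoc]

/-- Tests pushed along a morphism. -/
def Test.push (g : Y ⟶ Y') (t : Test ι Y) : Test ι Y' where
  R := t.R
  α := t.α
  y := t.y ≫ g.left
  w := by rw [Category.assoc, Over.w, t.w]
  D := t.D
  leib := t.leib
  base := t.base

theorem Rel.push {t t' : Test ι Y} {σ : t.R ⟶ t'.R} (h : Rel t t' σ) (g : Y ⟶ Y') :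
    Rel (t.push g) (t'.push g) σ := by
  refine ⟨?_, h.D_eq⟩
  show t'.y ≫ g.left = Spec.map σ ≫ t.y ≫ g.left
  rw [h.y_eq, Category.assoc]

variable (ι) in
/-- Natural functions on tests. -/
def Fn (Y : Over (Spec (CommRingCat.of k))) : Type (u + 1) :=
  {F : (t : Test ι Y) → t.R // ∀ (t t' : Test ι Y) (σ : t.R ⟶ t'.R), Rel t t' σ → σ (F t) = F t'}

/-- Values only depend on the morphism. -/
theorem Fn.congr_y (F : Fn ι Y) (t : Test ι Y) (y : Spec t.R ⟶ Y.left) (w : y ≫ Y.hom = Spec.map t.α)
    (h : y = t.y) : F.1 { t with y := y, w := w } = F.1 t := by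
  subst h
  rfl

theorem Fn.ext {F G : Fn ι Y} (h : ∀ t, F.1 t = G.1 t) : F = G := Subtype.ext (funext h)

/-- Restriction of functions. -/
def Fn.map (g : Y ⟶ Y') (F : Fn ι Y') : Fn ι Y :=
  ⟨fun t => F.1 (t.push g), fun t t' σ h => F.2 (t.push g) (t'.push g) σ (h.push g)⟩

variable (k ι) in
/-- The functor of natural functions on tests. -/
def fnFunctor : (Over (Spec (CommRingCat.of k)))ᵒᵖ ⥤ Type (u + 1) where
  obj Y := Fn ι Y.unop
  map g := TypeCat.ofHom (Fn.map g.unop)
  map_id Y := by
    ext F
    refine Fn.ext fun t => ?_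
    show F.1 (t.push (𝟙 Y).unop) = F.1 t
    refine Fn.congr_y F t _ _ ?_
    rw [unop_id, Over.id_left, Category.comp_id]
  map_comp g h := by
    ext F
    refine Fn.ext fun t => ?_
    show F.1 (t.push (g ≫ h).unop) = F.1 ((t.push h.unop).push g.unop)
    refine Fn.congr_y F ((t.push h.unop).push g.unop) _ _ ?_
    show t.y ≫ (g ≫ h).unop.left = (t.y ≫ h.unop.left) ≫ g.unop.left
    rw [unop_comp, Over.comp_left, Category.assoc]

end Groth.Agent.REqForms
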